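import Groth.Agent.H23.FiniteFlatDeg
import Groth.Agent.H9Cyc.FibreLen
import Groth.Agent.CycLib.Push
import Groth.Agent.CycLib.LFT
import Mathlib.AlgebraicGeometry.Morphisms.FlatRank
import Mathlib.FieldTheory.PurelyInseparable.Basic

/-! Cycles along a finite flat radicial surjection of constant degree. -/

set_option autoImplicit false
set_option linter.style.haveILetI false
set_option backward.isDefEq.respectTransparency false
set_option backward.isDefEq.respectTransparency.types false

universe u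

open AlgebraicGeometry CategoryTheory

namespace Groth.Agent.H9Insep

open Groth.Agent

variable {X X' : Scheme.{u}} (f : X' ⟶ X) [IsFinite f] [Flat f] [UniversallyInjective f] [Surjective f]
  {δ : X → ℤ} {δ' : X' → ℤ} (hδ : Cyc.DeltaCompat f δ' δ)

include hδ in
theorem delta_eq (x' : X') : δ' x' = δ (f x') := by
  obtain ⟨n, hn, he⟩ := hδ x'
  change VarDim.rdeg f x' = _ at hn
  rw [H9Cyc.rdeg_eq_zero_of_universallyInjective f x'] at hn
  have : n = 0 := by exact_mod_cast hn.symm
  rw [he, this, Nat.cast_zero, add_zero]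

theorem deg_mul_len (x' : X') :
    f.residueDegree x' * (H23.FiniteFibreSum.fibreLen f x').toNat = f.finrank (f x') := by
  rw [← (H23.FiniteFibreSum.sum_finrank f (f x')).2,
    show f ⁻¹' {f x'} = {x'} from Set.ext fun z => ⟨fun h => f.injective h, fun h => by subst h; rfl⟩,
    finsum_mem_singleton]

include hδ in
theorem map_apply_eq (c : AlgebraicCycle X' ℤ) (x' : X') :
    AlgebraicCycle.map f δ' δ c (f x') = c x' * (f.residueDegree x' : ℤ) := by
  rw [CycLib.map_apply', show f ⁻¹' {f x'} = {x'} from Set.ext fun z => ⟨fun h => f.injective h, fun h => by subst h; rfl⟩,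
    finsum_mem_singleton, AlgebraicCycle.mapCoeff, if_pos (delta_eq f hδ x')]

include hδ in
theorem pullFun_apply (a : X → ℤ) (x' : X') :
    Cyc.pullFun f δ' δ 0 a x' = a (f x') * ((H23.FiniteFibreSum.fibreLen f x').toNat : ℤ) := by
  simp only [Cyc.pullFun]
  rw [if_pos (by rw [add_zero]; exact delta_eq f hδ x')]
  rfl

include hδ in
theorem pull_map {N : ℕ} (hN : ∀ x, f.finrank x = N) (c : AlgebraicCycle X' ℤ) (x' : X') :
    Cyc.pullFun f δ' δ 0 (AlgebraicCycle.map f δ' δ c) x' = (N : ℤ) * c x' := by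
  rw [pullFun_apply f hδ, map_apply_eq f hδ, mul_assoc, ← Nat.cast_mul, deg_mul_len, hN, mul_comm]

include hδ in
theorem map_pull {N : ℕ} (hN : ∀ x, f.finrank x = N) (a : X → ℤ) (c : AlgebraicCycle X' ℤ)
    (hc : ⇑c = Cyc.pullFun f δ' δ 0 a) (x : X) : AlgebraicCycle.map f δ' δ c x = (N : ℤ) * a x := by
  obtain ⟨x', rfl⟩ := f.surjective x
  rw [map_apply_eq f hδ, hc, pullFun_apply f hδ, mul_assoc, ← Nat.cast_mul, mul_comm _ (f.residueDegree x'),
    deg_mul_len, hN, mul_comm]

include hδ in
theorem map_mem {i : ℤ} (c : AlgebraicCycle X' ℤ) (hc : c ∈ Cyc.Zk X' δ' i) :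
    AlgebraicCycle.map f δ' δ c ∈ Cyc.Zk X δ i := fun x hx => by
  obtain ⟨x', rfl⟩ := f.surjective x
  rw [map_apply_eq f hδ, hc x' (by rwa [delta_eq f hδ]), zero_mul]

end Groth.Agent.H9Insep
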